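import Groth.Agent.Lib.Pi1Cat.Whisker

/-!
# Exactness of sequences of fundamental groups
-/

set_option autoImplicit false

universe u v w

open CategoryTheory CategoryTheory.Limits CategoryTheory.PreGaloisCategory
open scoped FintypeCatDiscrete

namespace Groth.Agent.Pi1Cat

variable {C C' C'' : Type u} [Category.{v} C] [Category.{v} C'] [Category.{v} C'']
  [GaloisCategory C] [GaloisCategory C'] [GaloisCategory C''] (H : C ⥤ C') (H' : C' ⥤ C'')
  (F'' : C'' ⥤ FintypeCat.{w}) [FiberFunctor F''] [FiberFunctor (H' ⋙ F'')]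
  [FiberFunctor (H ⋙ (H' ⋙ F''))]

theorem comp_trivial_iff :
    (∀ σ : Aut F'', Pi1X.autWhisker H (H' ⋙ F'') (Pi1X.autWhisker H' F'' σ) = 1) ↔
      ∀ X : C, ∃ n : ℕ, Nonempty (H'.obj (H.obj X) ≅ ∐ fun _ : Fin n => ⊤_ C'') := by
  constructor
  · intro h X
    refine (exists_iso_sigma_terminal_iff F'' _).1 fun σ y => ?_
    have h1 : Pi1X.autWhisker H (H' ⋙ F'') (Pi1X.autWhisker H' F'' σ) •
        (show (H ⋙ (H' ⋙ F'')).obj X from y) = (show (H ⋙ (H' ⋙ F'')).obj X from y) := by
      rw [h σ, one_smul]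
    exact h1
  · intro h σ
    refine Iso.ext ?_
    refine NatTrans.ext (funext fun X => FintypeCat.hom_ext _ _ fun y => ?_)
    exact (exists_iso_sigma_terminal_iff F'' _).2 (h X) σ y

theorem ker_le_range_iff :
    (Pi1X.autWhisker H (H' ⋙ F'')).ker ≤ (Pi1X.autWhisker H' F'').range ↔
      ∀ (X' : C') (a' : (H' ⋙ F'').obj X'), PreGaloisCategory.IsConnected X' →
        (∃ s : ⊤_ C'' ⟶ H'.obj X', ∀ t : F''.obj (⊤_ C''), F''.map s t = a') →
          ∃ (X : C) (Y' : C') (i : Y' ⟶ H.obj X) (_ : Y' ⟶ X'), Mono i ∧ PreGaloisCategory.IsConnected Y' := by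
  constructor
  · intro h X' a' hX' hs
    exact (ker_le_stabilizer_iff H (H' ⋙ F'') X' a').1
      (h.trans ((range_le_stabilizer_iff H' F'' X' a').2 hs))
  · intro h σ hσ
    by_contra hne
    obtain ⟨Z, z, hZ, hle, hz⟩ := exists_connected_separating (H' ⋙ F'') _ (isClosed_range_autWhisker H' F'')
      (σ := σ) hne
    exact hz ((ker_le_stabilizer_iff H (H' ⋙ F'') Z z).2
      (h Z z hZ ((range_le_stabilizer_iff H' F'' Z z).1 hle)) hσ)

theorem exact_iff :
    (Function.Surjective (Pi1X.autWhisker H (H' ⋙ F'')) ∧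
      (∀ σ : Aut F'', Pi1X.autWhisker H (H' ⋙ F'') (Pi1X.autWhisker H' F'' σ) = 1) ∧
      (Pi1X.autWhisker H (H' ⋙ F'')).ker =
        (Subgroup.normalClosure (Set.range (Pi1X.autWhisker H' F''))).topologicalClosure) ↔
    ((H.Full ∧ H.Faithful) ∧
      ∀ X' : C', (∃ X : C, Nonempty (H.obj X ≅ X')) ↔
        ∃ n : ℕ, Nonempty (H'.obj X' ≅ ∐ fun _ : Fin n => ⊤_ C'')) := by
  let F' := H' ⋙ F''
  let h := Pi1X.autWhisker H F'
  let K : Subgroup (Aut F') := (Subgroup.normalClosure (Set.range (Pi1X.autWhisker H' F''))).topologicalClosure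
  haveI hKn : K.Normal := Subgroup.is_normal_topologicalClosure _
  have hKfix : ∀ (X' : C'), (∃ n : ℕ, Nonempty (H'.obj X' ≅ ∐ fun _ : Fin n => ⊤_ C'')) →
      ∀ y : F'.obj X', K ≤ MulAction.stabilizer (Aut F') y := by
    intro X' hX' y
    refine Subgroup.topologicalClosure_minimal _ ?_ (Subgroup.isClosed_of_isOpen _ (stabilizer_isOpen _ _))
    refine (Subgroup.normalClosure_le_normal (N := ⨅ y : F'.obj X', MulAction.stabilizer _ y) ?_).trans
      (iInf_le _ y)
    rintro _ ⟨σ, rfl⟩
    simp only [SetLike.mem_coe, Subgroup.mem_iInf, MulAction.mem_stabilizer_iff]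
    exact fun y => (exists_iso_sigma_terminal_iff F'' _).2 hX' σ y
  constructor
  · rintro ⟨hs, htriv, hker⟩
    refine ⟨(surjective_iff_fullyFaithful H F').1 hs, fun X' => ⟨?_, fun hX' => ?_⟩⟩
    · rintro ⟨X, ⟨e⟩⟩
      obtain ⟨n, ⟨i⟩⟩ := (comp_trivial_iff H H' F'').1 htriv X
      exact ⟨n, ⟨(H'.mapIso e).symm ≪≫ i⟩⟩
    · choose r hr using hs
      have hwd : ∀ σ τ : Aut F', h σ = h τ → ∀ y : F'.obj X', σ • y = τ • y := by
        intro σ τ hστ y
        have hm : τ⁻¹ * σ ∈ K := by
          rw [show K = h.ker from hker.symm, MonoidHom.mem_ker, map_mul, map_inv, hστ, inv_mul_cancel]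
        have := MulAction.mem_stabilizer_iff.1 (hKfix X' hX' y hm)
        rwa [mul_smul, inv_smul_eq_iff] at this
      letI act : MulAction (Aut (H ⋙ F')) (F'.obj X') :=
        { smul := fun τ y => r τ • y
          one_smul := fun y => (hwd (r 1) 1 (by rw [map_one]; exact hr 1) y).trans (one_smul _ y)
          mul_smul := fun τ τ' y => (hwd (r (τ * τ')) (r τ * r τ') (by
            rw [map_mul]; exact (hr _).trans (congrArg₂ (· * ·) (hr τ).symm (hr τ').symm)) y).trans (mul_smul _ _ y) }
      have hact : ∀ (σ : Aut F') (y : F'.obj X'), h σ • y = σ • y := fun σ y =>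
        hwd (r (h σ)) σ (hr (h σ)) y
      have hopen : ∀ y : F'.obj X', IsOpen (MulAction.stabilizer (Aut (H ⋙ F')) y : Set (Aut (H ⋙ F'))) := by
        intro y
        have hq : Topology.IsQuotientMap h :=
          (continuous_autWhisker H F').isClosedMap.isQuotientMap (continuous_autWhisker H F') fun τ => ⟨r τ, hr τ⟩
        rw [← hq.isOpen_preimage]
        have : h ⁻¹' (MulAction.stabilizer (Aut (H ⋙ F')) y : Set (Aut (H ⋙ F'))) =
            (MulAction.stabilizer (Aut F') y : Set (Aut F')) := by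
          ext σ
          simp only [Set.mem_preimage, SetLike.mem_coe, MulAction.mem_stabilizer_iff, hact]
        rw [this]
        exact stabilizer_isOpen _ _
      obtain ⟨X, e, he⟩ := exists_obj_of_action (H ⋙ F') (F'.obj X') hopen
      obtain ⟨g, hg⟩ := exists_hom_of_equivariant F' (X := H.obj X) (Y := X') e fun σ x => by
        rw [← hact σ (e x), ← he]
        rfl
      haveI := isIso_of_bijective F' g (by
        have : ⇑(ConcreteCategory.hom (F'.map g)) = (e : F'.obj (H.obj X) → F'.obj X') := funext hg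
        rw [this]
        exact e.bijective)
      exact ⟨X, ⟨asIso g⟩⟩
  · rintro ⟨hff, hess⟩
    have htriv : ∀ σ : Aut F'', h (Pi1X.autWhisker H' F'' σ) = 1 :=
      (comp_trivial_iff H H' F'').2 fun X => (hess _).1 ⟨X, ⟨Iso.refl _⟩⟩
    refine ⟨(surjective_iff_fullyFaithful H F').2 hff, htriv, le_antisymm (fun σ hσ => ?_) ?_⟩
    · by_contra hne
      obtain ⟨Z, z, hZ, hle, hz⟩ := exists_connected_separating F' K (Subgroup.isClosed_topologicalClosure _)
        (σ := σ) hne
      haveI := hZ
      have hfix : ∀ (τ : Aut F'') (y : F'.obj Z), Pi1X.autWhisker H' F'' τ • y = y := by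
        intro τ y
        obtain ⟨g, rfl⟩ := MulAction.exists_smul_eq (Aut F') z y
        have : g⁻¹ * Pi1X.autWhisker H' F'' τ * g ∈ K := by
          have := hKn.conj_mem _ (Subgroup.le_topologicalClosure _
            (Subgroup.subset_normalClosure (Set.mem_range_self τ))) g⁻¹
          simpa using this
        have := MulAction.mem_stabilizer_iff.1 (hle this)
        rwa [mul_smul, mul_smul, inv_smul_eq_iff] at this
      obtain ⟨X, ⟨e⟩⟩ := (hess Z).2 ((exists_iso_sigma_terminal_iff F'' _).1 hfix)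
      apply hz
      rw [MulAction.mem_stabilizer_iff]
      have h1 : σ • F'.map e.inv z = F'.map e.inv z := by
        have h2 : h σ • (show (H ⋙ F').obj X from F'.map e.inv z) =
            (show (H ⋙ F').obj X from F'.map e.inv z) := by
          rw [show h σ = 1 from hσ, one_smul]
        exact h2
      have := congrArg (F'.map e.hom) h1
      rw [← mulAction_naturality, ← FintypeCat.comp_apply, ← F'.map_comp, e.inv_hom_id, F'.map_id,
        FintypeCat.id_apply] at this
      exact this
    · haveI : h.ker.Normal := MonoidHom.normal_ker h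
      refine Subgroup.topologicalClosure_minimal _ (Subgroup.normalClosure_le_normal ?_)
        (isClosed_ker_autWhisker H F')
      rintro _ ⟨σ, rfl⟩
      exact htriv σ

end Groth.Agent.Pi1Cat
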