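import Mathlib.CategoryTheory.Galois.Equivalence
import Mathlib.CategoryTheory.Galois.IsFundamentalgroup
import Mathlib.GroupTheory.GroupAction.SubMulAction

/-!
# The dictionary between a Galois category and sets with an action of its fundamental group
-/

set_option autoImplicit false

universe u v w

open CategoryTheory CategoryTheory.Limits CategoryTheory.PreGaloisCategory
open scoped FintypeCatDiscrete Pointwise

namespace Groth.Agent.Pi1Cat

variable {C : Type u} [Category.{v} C] [GaloisCategory C] (F : C ⥤ FintypeCat.{w}) [FiberFunctor F]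

theorem isConnected_of_isPretransitive (X : C) [hne : Nonempty (F.obj X)]
    [MulAction.IsPretransitive (Aut F) (F.obj X)] : PreGaloisCategory.IsConnected X where
  notInitial h := by
    obtain ⟨x⟩ := hne
    exact not_initial_of_inhabited F x h
  noTrivialComponent Y i _ hY := by
    obtain ⟨y⟩ := (not_initial_iff_fiber_nonempty F Y).1 hY
    refine isIso_of_mono_of_eq_card_fiber F i (Nat.card_congr (Equiv.ofBijective (F.map i) ⟨?_, fun x => ?_⟩))
    · exact ConcreteCategory.injective_of_mono_of_preservesPullback (F.map i)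
    · obtain ⟨σ, rfl⟩ := MulAction.exists_smul_eq (Aut F) (F.map i y) x
      exact ⟨σ • y, (mulAction_naturality F σ i y).symm⟩

/-- Equivariant maps of fibres come from morphisms. -/
theorem exists_hom_of_equivariant {X Y : C} (φ : F.obj X → F.obj Y)
    (h : ∀ (σ : Aut F) (x : F.obj X), φ (σ • x) = σ • φ x) : ∃ f : X ⟶ Y, ∀ x, F.map f x = φ x := by
  let f' : (functorToAction F).obj X ⟶ (functorToAction F).obj Y :=
    { hom := FintypeCat.homMk φ
      comm := fun σ => FintypeCat.hom_ext _ _ fun x => h σ x }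
  obtain ⟨f, hf⟩ := (functorToAction F).map_surjective f'
  exact ⟨f, fun x => ConcreteCategory.congr_hom (congrArg Action.Hom.hom hf) x⟩

theorem exists_hom_of_stabilizer_le {X Y : C} [PreGaloisCategory.IsConnected X] (x : F.obj X) (y : F.obj Y)
    (h : MulAction.stabilizer (Aut F) x ≤ MulAction.stabilizer (Aut F) y) : ∃ f : X ⟶ Y, F.map f x = y := by
  choose s hs using fun x' : F.obj X => MulAction.exists_smul_eq (Aut F) x x'
  have key : ∀ σ τ : Aut F, σ • x = τ • x → σ • y = τ • y := by
    intro σ τ hst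
    have : τ⁻¹ * σ ∈ MulAction.stabilizer (Aut F) x := by
      rw [MulAction.mem_stabilizer_iff, mul_smul, hst, inv_smul_smul]
    have := h this
    rwa [MulAction.mem_stabilizer_iff, mul_smul, inv_smul_eq_iff] at this
  obtain ⟨f, hf⟩ := exists_hom_of_equivariant F (fun x' => s x' • y) fun σ x' => by
    rw [smul_smul]
    exact key _ _ (by rw [hs, mul_smul, hs])
  exact ⟨f, by rw [hf]; exact (key (s x) 1 (by rw [hs, one_smul])).trans (one_smul _ y)⟩

theorem stabilizer_le_of_hom {X Y : C} (f : X ⟶ Y) (x : F.obj X) :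
    MulAction.stabilizer (Aut F) x ≤ MulAction.stabilizer (Aut F) (F.map f x) := fun σ hσ => by
  rw [MulAction.mem_stabilizer_iff] at hσ ⊢
  rw [mulAction_naturality, hσ]

theorem stabilizer_eq_of_mono {X Y : C} (f : X ⟶ Y) [Mono f] (x : F.obj X) :
    MulAction.stabilizer (Aut F) (F.map f x) = MulAction.stabilizer (Aut F) x := by
  refine le_antisymm (fun σ hσ => ?_) (stabilizer_le_of_hom F f x)
  rw [MulAction.mem_stabilizer_iff] at hσ ⊢
  rw [mulAction_naturality] at hσ
  exact ConcreteCategory.injective_of_mono_of_preservesPullback (F.map f) hσ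

include F in
theorem isConnected_terminal : PreGaloisCategory.IsConnected (⊤_ C) := by
  haveI : Unique (F.obj (⊤_ C)) := by
    let i : F.obj (⊤_ C) ≅ ⊤_ FintypeCat.{w} := PreservesTerminal.iso F
    let j : FintypeCat.incl.obj (⊤_ FintypeCat.{w}) ≅ ⊤_ (Type w) := PreservesTerminal.iso FintypeCat.incl.{w}
    exact ((FintypeCat.equivEquivIso.symm i).trans (j.trans Types.terminalIso).toEquiv).unique
  haveI : MulAction.IsPretransitive (Aut F) (F.obj (⊤_ C)) := ⟨fun x y => ⟨1, Subsingleton.elim _ _⟩⟩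
  exact isConnected_of_isPretransitive F _

noncomputable def uniqueTerminal : Unique (F.obj (⊤_ C)) :=
  let i : F.obj (⊤_ C) ≅ ⊤_ FintypeCat.{w} := PreservesTerminal.iso F
  let j : FintypeCat.incl.obj (⊤_ FintypeCat.{w}) ≅ ⊤_ (Type w) := PreservesTerminal.iso FintypeCat.incl.{w}
  ((FintypeCat.equivEquivIso.symm i).trans (j.trans Types.terminalIso).toEquiv).unique

theorem smul_terminal (σ : Aut F) (x : F.obj (⊤_ C)) : σ • x = x :=
  letI := uniqueTerminal F
  Subsingleton.elim _ _

/-- A point fixed by everything is a section. -/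
theorem exists_section_iff (Y : C) (y : F.obj Y) :
    (∀ σ : Aut F, σ • y = y) ↔ ∃ s : ⊤_ C ⟶ Y, ∀ t : F.obj (⊤_ C), F.map s t = y := by
  constructor
  · intro h
    obtain ⟨s, hs⟩ := exists_hom_of_equivariant F (fun _ : F.obj (⊤_ C) => y) fun σ _ => (h σ).symm
    exact ⟨s, hs⟩
  · rintro ⟨s, hs⟩ σ
    obtain ⟨t⟩ := (uniqueTerminal F).instInhabited
    rw [← hs t, mulAction_naturality, smul_terminal]

theorem isIso_of_bijective {X Y : C} (f : X ⟶ Y) (h : Function.Bijective (F.map f)) : IsIso f := by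
  haveI : IsIso (F.map f) := (ConcreteCategory.isIso_iff_bijective (F.map f)).mpr h
  exact isIso_of_reflects_iso f F

theorem exists_sigma_eq {ι : Type*} [Finite ι] (f : ι → C) (x : F.obj (∐ f)) :
    ∃ (i : ι) (y : F.obj (f i)), F.map (Sigma.ι f i) y = x := by
  haveI : Fintype ι := Fintype.ofFinite ι
  obtain ⟨⟨j⟩, y, hy⟩ := Limits.FintypeCat.jointly_surjective
    (Discrete.functor f ⋙ F) _ (isColimitOfPreserves F (colimit.isColimit (Discrete.functor f))) x
  exact ⟨j, y, hy⟩

/-- The trivial objects. -/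
theorem exists_iso_sigma_terminal_iff (Y : C) :
    (∀ (σ : Aut F) (y : F.obj Y), σ • y = y) ↔ ∃ n : ℕ, Nonempty (Y ≅ ∐ fun _ : Fin n => ⊤_ C) := by
  constructor
  · intro h
    let e : Fin (Nat.card (F.obj Y)) ≃ F.obj Y := (Finite.equivFin _).symm
    choose s hs using fun i => (exists_section_iff F Y (e i)).1 fun σ => h σ (e i)
    let g : (∐ fun _ : Fin (Nat.card (F.obj Y)) => ⊤_ C) ⟶ Y := Sigma.desc s
    refine ⟨_, ⟨(@asIso _ _ _ _ g (isIso_of_bijective F g ⟨?_, fun y => ?_⟩)).symm⟩⟩
    · intro a b hab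
      obtain ⟨i, t, rfl⟩ := exists_sigma_eq F _ a
      obtain ⟨j, t', rfl⟩ := exists_sigma_eq F _ b
      simp only [← FintypeCat.comp_apply, ← F.map_comp, g, colimit.ι_desc, Cofan.mk_pt, Cofan.mk_ι_app] at hab
      rw [hs, hs] at hab
      obtain rfl := e.injective hab
      rw [(uniqueTerminal F).eq_default t, (uniqueTerminal F).eq_default t']
    · obtain ⟨t⟩ := (uniqueTerminal F).instInhabited
      refine ⟨F.map (Sigma.ι (fun _ : Fin (Nat.card (F.obj Y)) => ⊤_ C) (e.symm y)) t, ?_⟩
      simp only [← FintypeCat.comp_apply, ← F.map_comp, g, colimit.ι_desc, Cofan.mk_pt, Cofan.mk_ι_app]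
      rw [hs, Equiv.apply_symm_apply]
  · rintro ⟨n, ⟨e⟩⟩ σ y
    obtain ⟨i, t, ht⟩ := exists_sigma_eq F _ (F.map e.hom y)
    have hy : y = F.map (Sigma.ι (fun _ : Fin n => ⊤_ C) i ≫ e.inv) t := by
      rw [F.map_comp, FintypeCat.comp_apply, ht, ← FintypeCat.comp_apply, ← F.map_comp, e.hom_inv_id,
        F.map_id, FintypeCat.id_apply]
    rw [hy, mulAction_naturality, smul_terminal]

/-- Realisation of a finite set with continuous action. -/
theorem exists_obj_of_action (T : FintypeCat.{w}) [MulAction (Aut F) T]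
    (hT : ∀ t : T, IsOpen (MulAction.stabilizer (Aut F) t : Set (Aut F))) :
    ∃ (X : C) (e : F.obj X ≃ T), ∀ (σ : Aut F) (x : F.obj X), e (σ • x) = σ • e x := by
  let X0 : Action FintypeCat (Aut F) := Action.FintypeCat.ofMulAction (Aut F) T
  letI : TopologicalSpace T := ⊥
  haveI : DiscreteTopology T := ⟨rfl⟩
  have hcont : Continuous fun p : Aut F × T => p.1 • p.2 := by
    refine continuous_prod_of_discrete_right.2 fun (t : T) => ?_
    refine continuous_discrete_rng.2 fun (t' : T) => ?_
    show IsOpen ((fun σ : Aut F => σ • t) ⁻¹' {t'})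
    refine isOpen_iff_forall_mem_open.2 fun σ hσ => ?_
    refine ⟨σ • (MulAction.stabilizer (Aut F) t : Set (Aut F)), ?_, (hT t).leftCoset σ,
      ⟨1, Subgroup.one_mem _, mul_one σ⟩⟩
    rintro _ ⟨τ, hτ, rfl⟩
    rw [SetLike.mem_coe, MulAction.mem_stabilizer_iff] at hτ
    show (σ * τ) • t = t'
    rw [mul_smul, hτ]
    exact hσ
  have hc : X0.IsContinuous := by
    rw [Action.isContinuous_def]
    exact hcont
  let A : ContAction FintypeCat (Aut F) := ⟨X0, hc⟩
  let i := (functorToContAction F).objObjPreimageIso A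
  let j : (functorToAction F).obj ((functorToContAction F).objPreimage A) ≅ X0 :=
    (ObjectProperty.ι _).mapIso i
  refine ⟨(functorToContAction F).objPreimage A, (FintypeCat.equivEquivIso (A := F.obj ((functorToContAction F).objPreimage A)) (B := T)).symm ((Action.forget _ _).mapIso j),
    fun σ x => ?_⟩
  exact ConcreteCategory.congr_hom (j.hom.comm σ) x

/-- A closed subgroup is an intersection of stabilisers of connected objects. -/
theorem exists_connected_separating (K : Subgroup (Aut F)) (hK : IsClosed (K : Set (Aut F))) {σ : Aut F}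
    (hσ : σ ∉ K) : ∃ (Z : C) (z : F.obj Z), PreGaloisCategory.IsConnected Z ∧
      K ≤ MulAction.stabilizer (Aut F) z ∧ σ ∉ MulAction.stabilizer (Aut F) z := by
  let S : Set (Aut F) := (fun k => k * σ) '' (K : Set (Aut F))
  have hS : IsClosed S := (hK.isCompact.image (continuous_id.mul continuous_const)).isClosed
  have h1 : (1 : Aut F) ∉ S := by
    rintro ⟨k, hk, hk1⟩
    exact hσ ((eq_inv_of_mul_eq_one_right hk1) ▸ K.inv_mem hk)
  obtain ⟨A, -, hA⟩ := (nhds_one_has_basis_stabilizers F).mem_iff.1 (hS.isOpen_compl.mem_nhds h1)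
  let T : FintypeCat.{w} := FintypeCat.of (Set (F.obj (A : C)))
  letI : MulAction (Aut F) T := inferInstanceAs (MulAction (Aut F) (Set (F.obj (A : C))))
  have hT : ∀ t : T, IsOpen (MulAction.stabilizer (Aut F) t : Set (Aut F)) := by
    intro t
    have : Finite (F.obj (A : C)) := inferInstance
    refine Subgroup.isOpen_mono (H₁ := ⨅ x : F.obj (A : C), MulAction.stabilizer (Aut F) x) ?_ ?_
    · intro g hg
      simp only [Subgroup.mem_iInf, MulAction.mem_stabilizer_iff] at hg
      rw [MulAction.mem_stabilizer_iff]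
      show g • (t : Set (F.obj (A : C))) = t
      ext x
      rw [Set.mem_smul_set]
      exact ⟨fun ⟨y, hy, hyx⟩ => by rw [← hyx, hg y]; exact hy, fun hx => ⟨x, hx, hg x⟩⟩
    · rw [Subgroup.coe_iInf]
      exact isOpen_iInter_of_finite fun x => stabilizer_isOpen _ x
  obtain ⟨X, e, he⟩ := exists_obj_of_action F T hT
  let O : T := (fun k : Aut F => k • A.pt) '' (K : Set (Aut F))
  obtain ⟨Z, i, z, hz, hZ, hi⟩ := fiber_in_connected_component F X (e.symm O)
  have hstab : ∀ g : Aut F, g ∈ MulAction.stabilizer (Aut F) z ↔ g • O = O := fun g => by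
    rw [← stabilizer_eq_of_mono F i z, hz, MulAction.mem_stabilizer_iff]
    constructor
    · intro h
      have := congrArg e h
      rwa [he, e.apply_symm_apply] at this
    · intro h
      apply e.injective
      rw [he, e.apply_symm_apply, h]
  refine ⟨Z, z, hZ, fun k hk => (hstab k).2 ?_, fun h => ?_⟩
  · show k • ((fun l : Aut F => l • A.pt) '' (K : Set (Aut F))) = _
    ext x
    rw [Set.mem_smul_set]
    constructor
    · rintro ⟨_, ⟨l, hl, rfl⟩, rfl⟩
      exact ⟨k * l, K.mul_mem hk hl, mul_smul _ _ _⟩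
    · rintro ⟨l, hl, rfl⟩
      exact ⟨(k⁻¹ * l) • A.pt, ⟨k⁻¹ * l, K.mul_mem (K.inv_mem hk) hl, rfl⟩, by
        rw [← mul_smul, mul_inv_cancel_left]⟩
  · have h' := (hstab σ).1 h
    have hmem : σ • A.pt ∈ (O : Set (F.obj (A : C))) := by
      rw [← h']
      exact Set.smul_mem_smul_set ⟨1, K.one_mem, one_smul _ _⟩
    obtain ⟨l, hl, hlσ⟩ := hmem
    refine hA (a := l⁻¹ * σ) ?_ ⟨l⁻¹, K.inv_mem hl, rfl⟩
    show (l⁻¹ * σ) • A.pt = A.pt
    rw [mul_smul, ← hlσ, inv_smul_smul]

end Groth.Agent.Pi1Cat
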