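import Mathlib.CategoryTheory.Galois.Topology
import Mathlib.CategoryTheory.Action.Continuous
import Mathlib.Topology.Category.FinTopCat
import Mathlib.CategoryTheory.Action.Concrete
import Mathlib.GroupTheory.GroupAction.Quotient
import Mathlib.GroupTheory.Index
import Mathlib.Topology.Algebra.OpenSubgroup
import Mathlib.Algebra.Group.Pointwise.Set.Scalar

/-!
# Finite sets with a group action and the automorphisms of the forgetful functor
-/

namespace Groth.Agent.Pi1Cat.FiniteSets

open CategoryTheory
open scoped Pointwise

universe u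

variable {G : Type u} [Group G]

/-- A finite group under `G` as a finite `G`-set. -/
noncomputable def objQ {Q : Type u} [Group Q] [Finite Q] (π : G →* Q) : Action FintypeCat.{u} G where
  V := FintypeCat.of Q
  ρ :=
    { toFun := fun g => FintypeCat.homMk (fun q : Q => π g * q)
      map_one' := ConcreteCategory.hom_ext _ _ fun (q : Q) => by
        show π 1 * q = q
        rw [map_one, one_mul]
      map_mul' := fun g h => ConcreteCategory.hom_ext _ _ fun (q : Q) => by
        show π (g * h) * q = π g * (π h * q)
        rw [map_mul, mul_assoc] }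

/-- Right multiplication. -/
noncomputable def rmul {Q : Type u} [Group Q] [Finite Q] (π : G →* Q) (r : Q) : objQ π ⟶ objQ π where
  hom := FintypeCat.homMk (fun q : Q => q * r)
  comm g := by
    ext (q : Q)
    show π g * q * r = π g * (q * r)
    rw [mul_assoc]

/-- The projection between two such sets. -/
noncomputable def projQ {Q : Type u} [Group Q] [Finite Q] (π : G →* Q) {Q' : Type u} [Group Q'] [Finite Q']
    (π' : G →* Q') (f : Q →* Q') (hf : ∀ g, f (π g) = π' g) : objQ π ⟶ objQ π' where
  hom := FintypeCat.homMk (fun q : Q => f q)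
  comm g := by
    ext (q : Q)
    show f (π g * q) = π' g * f q
    rw [map_mul, hf]

/-- The kernel of an action. -/
def actKer (X : Action FintypeCat.{u} G) : Subgroup G where
  carrier := {g | ∀ x : X.V, (X.ρ g).hom x = x}
  one_mem' x := by rw [map_one]; rfl
  mul_mem' {a b} ha hb x := by
    rw [map_mul]
    exact (ha ((X.ρ b).hom x)).trans (hb x) |>.trans rfl
  inv_mem' {a} ha x := by
    have h := ConcreteCategory.congr_hom ((map_mul X.ρ a⁻¹ a).symm.trans
      (by rw [inv_mul_cancel, map_one])) x
    change (X.ρ a⁻¹).hom ((X.ρ a).hom x) = x at h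
    rwa [ha] at h

theorem mem_actKer {X : Action FintypeCat.{u} G} {g : G} : g ∈ actKer X ↔ ∀ x : X.V, (X.ρ g).hom x = x :=
  Iff.rfl

theorem rho_mul (X : Action FintypeCat.{u} G) (g h : G) (x : X.V) :
    (X.ρ (g * h)).hom x = (X.ρ g).hom ((X.ρ h).hom x) := by
  rw [map_mul]; rfl

theorem rho_one (X : Action FintypeCat.{u} G) (x : X.V) : (X.ρ 1).hom x = x := by
  rw [map_one]; rfl

instance actKer_normal (X : Action FintypeCat.{u} G) : (actKer X).Normal where
  conj_mem n hn g x := by
    rw [rho_mul, rho_mul, hn, ← rho_mul, mul_inv_cancel, rho_one]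

instance actKer_finiteIndex (X : Action FintypeCat.{u} G) : (actKer X).FiniteIndex := by
  let f : G ⧸ actKer X → (X.V → X.V) := fun q => Quotient.liftOn' q (fun g x => (X.ρ g).hom x) (by
    intro a b hab
    rw [QuotientGroup.leftRel_apply] at hab
    funext x
    conv_rhs => rw [← mul_inv_cancel_left a b, rho_mul, hab])
  haveI : Finite (G ⧸ actKer X) := Finite.of_injective f (by
    rintro ⟨a⟩ ⟨b⟩ h
    refine QuotientGroup.eq.2 fun x => ?_
    have h' : (X.ρ b).hom x = (X.ρ a).hom x := (congrFun h x).symm
    rw [rho_mul, h', ← rho_mul, inv_mul_cancel, rho_one])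
  exact Subgroup.finiteIndex_of_finite_quotient

/-- The orbit map. -/
noncomputable def orbitMap (K : Subgroup G) [K.Normal] [Finite (G ⧸ K)] (X : Action FintypeCat.{u} G)
    (hK : K ≤ actKer X) (x : X.V) : objQ (QuotientGroup.mk' K) ⟶ X where
  hom := FintypeCat.homMk (fun q : G ⧸ K => Quotient.liftOn' q (fun g => (X.ρ g).hom x) (fun a b hab => by
    rw [QuotientGroup.leftRel_apply] at hab
    conv_rhs => rw [← mul_inv_cancel_left a b, rho_mul, hK hab x]))
  comm g := by
    ext q
    induction q using Quotient.inductionOn' with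
    | h a => exact rho_mul X g a x

/-- A finite open normal kernel for finitely many actions. -/
theorem finiteIndex_iInf_actKer {ι : Type*} [Finite ι] (X : ι → Action FintypeCat.{u} G) :
    (⨅ i, actKer (X i)).Normal ∧ Finite (G ⧸ ⨅ i, actKer (X i)) := by
  haveI : (⨅ i, actKer (X i)).FiniteIndex := Subgroup.finiteIndex_iInf fun i => inferInstance
  exact ⟨Subgroup.normal_iInf_normal fun i => inferInstance, inferInstance⟩

open scoped FintypeCatDiscrete in
/-- Continuity criterion. -/
theorem isContinuous_of_isOpen [TopologicalSpace G] [IsTopologicalGroup G] (X : Action FintypeCat.{u} G)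
    (h : IsOpen (actKer X : Set G)) : X.IsContinuous := by
  rw [Action.isContinuous_def]
  change Continuous fun p : G × X.V => (X.ρ p.1).hom p.2
  refine continuous_prod_of_discrete_right.2 fun x => ?_
  refine continuous_discrete_rng.2 fun x' => ?_
  refine isOpen_iff_forall_mem_open.2 fun g hg => ⟨g • (actKer X : Set G), ?_, h.leftCoset g,
    ⟨1, Subgroup.one_mem _, mul_one g⟩⟩
  rintro _ ⟨a, ha, rfl⟩
  show (X.ρ (g * a)).hom x = x'
  rw [rho_mul, ha x]
  exact hg

open scoped FintypeCatDiscrete in
theorem isOpen_actKer [TopologicalSpace G] [IsTopologicalGroup G] (X : Action FintypeCat.{u} G)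
    (h : X.IsContinuous) : IsOpen (actKer X : Set G) := by
  rw [Action.isContinuous_def] at h
  change Continuous fun p : G × X.V => (X.ρ p.1).hom p.2 at h
  have : (actKer X : Set G) = ⋂ x : X.V, (fun g => (X.ρ g).hom x) ⁻¹' {x} := by
    ext g; simp [mem_actKer]
  rw [this]
  exact isOpen_iInter_of_finite fun x =>
    (isOpen_discrete _).preimage (h.comp (continuous_id.prodMk continuous_const))

theorem actKer_objQ {Q : Type u} [Group Q] [Finite Q] (π : G →* Q) : actKer (objQ π) = π.ker := by
  ext g
  refine ⟨fun h => ?_, fun h (q : Q) => ?_⟩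
  · have := h (1 : Q)
    change π g * 1 = 1 at this
    simpa using this
  · show π g * q = q
    rw [MonoidHom.mem_ker.1 h, one_mul]

end Groth.Agent.Pi1Cat.FiniteSets
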