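import Groth.Agent.Lib.Pi1Cat.Dict
import Mathlib.CategoryTheory.CofilteredSystem
import Mathlib.CategoryTheory.Limits.Constructions.FiniteProductsOfBinaryProducts
import Mathlib.CategoryTheory.Limits.Constructions.EpiMono

/-!
# Uniqueness of fibre functors
-/

set_option autoImplicit false

universe u v w

open CategoryTheory CategoryTheory.Limits CategoryTheory.PreGaloisCategory

namespace Groth.Agent.Pi1Cat

variable {C : Type u} [Category.{v} C] [GaloisCategory C] (F : C ⥤ FintypeCat.{w}) [FiberFunctor F]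

instance (A : PointedGaloisObject F) : PreGaloisCategory.IsConnected ((PointedGaloisObject.incl F).obj A) :=
  inferInstanceAs (PreGaloisCategory.IsConnected (A : C))

instance isCofilteredOrEmpty_pointedGaloisObject : IsCofilteredOrEmpty (PointedGaloisObject F) where
  cone_objs := fun ⟨A, a, _⟩ ⟨B, b, _⟩ => by
    obtain ⟨Z, f, z, hgal, hfz⟩ := exists_hom_from_galois_of_fiber F (A ⨯ B)
      ((fiberBinaryProductEquiv F A B).symm (a, b))
    refine ⟨⟨Z, z, hgal⟩, ⟨f ≫ prod.fst, ?_⟩, ⟨f ≫ prod.snd, ?_⟩, trivial⟩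
    · simp only [F.map_comp, hfz, FintypeCat.comp_apply, fiberBinaryProductEquiv_symm_fst_apply]
    · simp only [F.map_comp, hfz, FintypeCat.comp_apply, fiberBinaryProductEquiv_symm_snd_apply]
  cone_maps := fun ⟨A, a, _⟩ ⟨B, b, _⟩ ⟨f, hf⟩ ⟨g, hg⟩ => by
    obtain ⟨Z, h, z, hgal, hhz⟩ := exists_hom_from_galois_of_fiber F A a
    refine ⟨⟨Z, z, hgal⟩, ⟨h, hhz⟩, PointedGaloisObject.hom_ext ?_⟩
    apply evaluation_injective_of_isConnected F Z B z
    simp [hhz, hf, hg]

/-- A transformation out of a fibre functor from a compatible family of points. -/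
theorem nonempty_hom (F' : C ⥤ FintypeCat.{w})
    (s : (PointedGaloisObject.incl F ⋙ F' ⋙ FintypeCat.incl).sections) : Nonempty (F ⟶ F') := by
  have hex : ∀ (X : C) (x : F.obj X), ∃ (A : PointedGaloisObject F) (f : (A : C) ⟶ X), F.map f A.pt = x :=
    fun X x => by
      obtain ⟨A, f, a, hA, hf⟩ := exists_hom_from_galois_of_fiber F X x
      exact ⟨⟨A, a, hA⟩, f, hf⟩
  have hwd : ∀ (X : C) (A B : PointedGaloisObject F) (f : (A : C) ⟶ X) (g : (B : C) ⟶ X),
      F.map f A.pt = F.map g B.pt → F'.map f (s.val A) = F'.map g (s.val B) := by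
    intro X A B f g h
    let Z := IsCofiltered.min A B
    let p : Z ⟶ A := IsCofiltered.minToLeft A B
    let q : Z ⟶ B := IsCofiltered.minToRight A B
    have hpq : p.val ≫ f = q.val ≫ g := by
      apply evaluation_injective_of_isConnected F (Z : C) X Z.pt
      show F.map (p.val ≫ f) Z.pt = F.map (q.val ≫ g) Z.pt
      rw [F.map_comp, F.map_comp, FintypeCat.comp_apply, FintypeCat.comp_apply, p.comp, q.comp, h]
    have hp : F'.map p.val (s.val Z) = s.val A := s.property p
    have hq : F'.map q.val (s.val Z) = s.val B := s.property q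
    rw [← hp, ← hq, ← FintypeCat.comp_apply, ← FintypeCat.comp_apply, ← F'.map_comp, ← F'.map_comp, hpq]
  choose A f hf using hex
  refine ⟨{ app := fun X => FintypeCat.homMk fun x => F'.map (f X x) (s.val (A X x)), naturality := ?_ }⟩
  intro X Y g
  refine FintypeCat.hom_ext _ _ fun x => ?_
  show F'.map (f Y (F.map g x)) (s.val _) = F'.map g (F'.map (f X x) (s.val _))
  rw [← FintypeCat.comp_apply (F'.map (f X x)), ← F'.map_comp]
  apply hwd
  rw [hf, F.map_comp, FintypeCat.comp_apply, hf]

theorem isEmpty_of_isInitial (F' : C ⥤ FintypeCat.{w}) [PreservesColimitsOfShape (Discrete WalkingPair) F']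
    {X : C} (hX : IsInitial X) : IsEmpty (F'.obj X) := by
  let c : BinaryCofan X X := BinaryCofan.mk (𝟙 X) (𝟙 X)
  have hc : IsColimit c :=
    BinaryCofan.IsColimit.mk c (fun f _ => f) (fun f g => Category.id_comp f)
      (fun f g => by rw [show g = f from hX.hom_ext _ _]; exact Category.id_comp f)
      (fun f g m h _ => (Category.id_comp m).symm.trans h)
  have h' := isColimitOfPreserves (F' ⋙ FintypeCat.incl) hc
  let c' : BinaryCofan ((F' ⋙ FintypeCat.incl).obj X) ((F' ⋙ FintypeCat.incl).obj X) :=
    BinaryCofan.mk ((F' ⋙ FintypeCat.incl).map (𝟙 X)) ((F' ⋙ FintypeCat.incl).map (𝟙 X))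
  have hc' : IsColimit c' := mapIsColimitOfPreservesOfIsColimit (F' ⋙ FintypeCat.incl) _ _ hc
  obtain ⟨-, -, hcompl⟩ := (Types.binaryCofan_isColimit_iff c').1 ⟨hc'⟩
  refine ⟨fun x => ?_⟩
  have h1 : x ∈ Set.range c'.inl := ⟨x, by simp [c']; rfl⟩
  exact Set.disjoint_left.1 hcompl.disjoint h1 (show x ∈ Set.range c'.inr from ⟨x, by simp [c']; rfl⟩)

/-- Any exact functor to finite sets is a fibre functor isomorphic to the given one. -/
theorem nonempty_iso (F' : C ⥤ FintypeCat.{w}) [PreservesFiniteLimits F']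
    [PreservesColimitsOfShape (Discrete WalkingPair) F']
    (h : ∀ X : C, IsEmpty (F'.obj X) → Nonempty (IsInitial X)) : Nonempty (F' ≅ F) := by
  haveI : PreservesColimit (Functor.empty.{0} C) F' := by
    haveI := isEmpty_of_isInitial F' (initialIsInitial (C := C))
    refine preservesColimit_of_preserves_colimit_cocone (initialIsInitial (C := C)) ?_
    exact
      { desc := fun s => FintypeCat.homMk fun (x : F'.obj (⊥_ C)) => isEmptyElim x
        fac := fun s j => j.as.elim
        uniq := fun s m _ => FintypeCat.hom_ext _ _ fun (x : F'.obj (⊥_ C)) => isEmptyElim x }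
  haveI : PreservesColimitsOfShape (Discrete PEmpty.{1}) F' :=
    preservesColimitsOfShape_pempty_of_preservesInitial F'
  haveI : PreservesFiniteCoproducts F' :=
    ⟨fun _ => PreservesFiniteCoproducts.of_preserves_binary_and_initial F' _⟩
  have hne : ∀ A : PointedGaloisObject F, Nonempty (F'.obj (A : C)) := fun A => by
    by_contra hA
    rw [not_nonempty_iff] at hA
    obtain ⟨hi⟩ := h _ hA
    exact not_initial_of_inhabited F A.pt hi
  haveI : ∀ A, Finite ((PointedGaloisObject.incl F ⋙ F' ⋙ FintypeCat.incl).obj A) := fun A =>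
    inferInstanceAs (Finite (F'.obj (A : C)))
  haveI : ∀ A, Nonempty ((PointedGaloisObject.incl F ⋙ F' ⋙ FintypeCat.incl).obj A) := hne
  obtain ⟨s, hs⟩ := nonempty_sections_of_finite_cofiltered_system
    (PointedGaloisObject.incl F ⋙ F' ⋙ FintypeCat.incl)
  obtain ⟨t⟩ := nonempty_hom F F' ⟨s, hs⟩
  have hnat : ∀ {X Y : C} (f : X ⟶ Y) (x : F.obj X), t.app Y (F.map f x) = F'.map f (t.app X x) :=
    fun f x => NatTrans.naturality_apply t f x
  have key : ∀ X, Function.Bijective (t.app X) := by
    intro X
    constructor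
    · intro x x' hxx
      obtain ⟨Z, i, z, hz, hZ, -⟩ := fiber_in_connected_component F (X ⨯ X)
        ((fiberBinaryProductEquiv F X X).symm (x, x'))
      have hp : F.map (i ≫ prod.fst) z = x := by
        rw [F.map_comp, FintypeCat.comp_apply, hz, fiberBinaryProductEquiv_symm_fst_apply]
      have hq : F.map (i ≫ prod.snd) z = x' := by
        rw [F.map_comp, FintypeCat.comp_apply, hz, fiberBinaryProductEquiv_symm_snd_apply]
      by_contra hne'
      have hE : IsEmpty (F.obj (equalizer (i ≫ prod.fst) (i ≫ prod.snd))) := by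
        refine ⟨fun e => hne' ?_⟩
        obtain ⟨z', hz'⟩ := fiberEqualizerEquiv F (i ≫ prod.fst) (i ≫ prod.snd) e
        obtain ⟨σ, rfl⟩ := MulAction.exists_smul_eq (Aut F) z z'
        rw [← mulAction_naturality, ← mulAction_naturality, hp, hq] at hz'
        exact MulAction.injective σ hz'
      obtain ⟨hI⟩ := (initial_iff_fiber_empty F _).2 hE
      have hE' := isEmpty_of_isInitial F' hI
      let e' := (PreservesEqualizer.iso (F' ⋙ FintypeCat.incl) (i ≫ prod.fst) (i ≫ prod.snd) ≪≫
        Types.equalizerIso (((F' ⋙ FintypeCat.incl)).map (i ≫ prod.fst))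
          ((F' ⋙ FintypeCat.incl).map (i ≫ prod.snd))).toEquiv
      refine hE'.false (e'.symm ⟨t.app Z z, ?_⟩)
      show F'.map (i ≫ prod.fst) (t.app Z z) = F'.map (i ≫ prod.snd) (t.app Z z)
      rw [← hnat, ← hnat, hp, hq, hxx]
    · intro y
      obtain ⟨A, a, hA, hev⟩ := exists_galois_representative F X
      haveI : Finite ((A : C) ⟶ X) := Finite.of_injective _ hev.injective
      let φ : (∐ fun _ : ((A : C) ⟶ X) => A) ⟶ A ⨯ X := Sigma.desc fun f => prod.lift (𝟙 A) f
      have hφ1 : ∀ (f : (A : C) ⟶ X) (b : F.obj A),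
          F.map prod.fst (F.map φ (F.map (Sigma.ι (fun _ : ((A : C) ⟶ X) => A) f) b)) = b := by
        intro f b
        rw [← FintypeCat.comp_apply, ← F.map_comp, ← FintypeCat.comp_apply, ← F.map_comp]
        simp only [φ, colimit.ι_desc_assoc, colimit.ι_desc, Cofan.mk_pt, Cofan.mk_ι_app, Category.assoc,
          prod.lift_fst, prod.lift_snd, F.map_id, FintypeCat.id_apply]
        try rw [← FintypeCat.comp_apply, ← F.map_comp]
        try simp [prod.lift_fst, prod.lift_snd]
      have hφ2 : ∀ (f : (A : C) ⟶ X) (b : F.obj A),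
          F.map prod.snd (F.map φ (F.map (Sigma.ι (fun _ : ((A : C) ⟶ X) => A) f) b)) = F.map f b := by
        intro f b
        rw [← FintypeCat.comp_apply, ← F.map_comp, ← FintypeCat.comp_apply, ← F.map_comp]
        simp only [φ, colimit.ι_desc_assoc, colimit.ι_desc, Cofan.mk_pt, Cofan.mk_ι_app, Category.assoc,
          prod.lift_fst, prod.lift_snd, F.map_id, FintypeCat.id_apply]
        try rw [← FintypeCat.comp_apply, ← F.map_comp]
        try simp [prod.lift_fst, prod.lift_snd]
      haveI : IsIso φ := by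
        refine isIso_of_bijective F φ ⟨fun c d hcd => ?_, fun p => ?_⟩
        · obtain ⟨f, b, rfl⟩ := exists_sigma_eq F _ c
          obtain ⟨g, b', rfl⟩ := exists_sigma_eq F _ d
          have h1 := hφ1 f b
          rw [hcd, hφ1] at h1
          subst h1
          have h2 := hφ2 f b'
          rw [hcd, hφ2] at h2
          obtain rfl : g = f := evaluation_injective_of_isConnected F A X b' h2
          rfl
        · obtain ⟨σ, hσ⟩ := MulAction.exists_smul_eq (Aut F) a (F.map prod.fst p)
          obtain ⟨f, hf : F.map f a = σ⁻¹ • F.map prod.snd p⟩ := hev.surjective (σ⁻¹ • F.map prod.snd p)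
          refine ⟨F.map (Sigma.ι (fun _ : ((A : C) ⟶ X) => A) f) (σ • a), ?_⟩
          apply (fiberBinaryProductEquiv F A X).injective
          have hinj : ∀ q : F.obj (A ⨯ X), fiberBinaryProductEquiv F A X q = (F.map prod.fst q, F.map prod.snd q) := by
            intro q
            obtain ⟨⟨u₁, u₂⟩, rfl⟩ := (fiberBinaryProductEquiv F A X).symm.surjective q
            rw [Equiv.apply_symm_apply, fiberBinaryProductEquiv_symm_fst_apply,
              fiberBinaryProductEquiv_symm_snd_apply]
          rw [hinj, hinj, hφ1, hφ2, hσ]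
          refine Prod.ext rfl ?_
          show F.map f _ = _
          rw [← hσ, ← mulAction_naturality, hf, smul_inv_smul]
      let e' := (PreservesLimitPair.iso (F' ⋙ FintypeCat.incl) A X ≪≫ Types.binaryProductIso _ _).toEquiv
      let p' := e'.symm (t.app A a, y)
      have hp1 : F'.map prod.fst p' = t.app A a := by
        show ((Types.binaryProductIso _ _).inv ≫ (PreservesLimitPair.iso (F' ⋙ FintypeCat.incl) A X).inv ≫
          (F' ⋙ FintypeCat.incl).map prod.fst) (t.app A a, y) = _
        erw [PreservesLimitPair.iso_inv_fst, Types.binaryProductIso_inv_comp_fst]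
        rfl
      have hp2 : F'.map prod.snd p' = y := by
        show ((Types.binaryProductIso _ _).inv ≫ (PreservesLimitPair.iso (F' ⋙ FintypeCat.incl) A X).inv ≫
          (F' ⋙ FintypeCat.incl).map prod.snd) (t.app A a, y) = _
        erw [PreservesLimitPair.iso_inv_snd, Types.binaryProductIso_inv_comp_snd]
        rfl
      haveI : Fintype ((A : C) ⟶ X) := Fintype.ofFinite _
      obtain ⟨⟨f⟩, b, hb⟩ := Limits.FintypeCat.jointly_surjective
        (Discrete.functor (fun _ : ((A : C) ⟶ X) => A) ⋙ F') _
        (isColimitOfPreserves F' (colimit.isColimit (Discrete.functor fun _ : ((A : C) ⟶ X) => A)))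
        (F'.map (inv φ) p')
      have hb' : F'.map (Sigma.ι (fun _ : ((A : C) ⟶ X) => A) f ≫ φ) b = p' := by
        rw [F'.map_comp, FintypeCat.comp_apply]
        rw [show F'.map (Sigma.ι (fun _ : ((A : C) ⟶ X) => A) f) b = F'.map (inv φ) p' from hb]
        rw [← FintypeCat.comp_apply, ← F'.map_comp, IsIso.inv_hom_id, F'.map_id, FintypeCat.id_apply]
      rw [show Sigma.ι (fun _ : ((A : C) ⟶ X) => A) f ≫ φ = prod.lift (𝟙 A) f by simp [φ]] at hb'
      rw [← hb', ← FintypeCat.comp_apply, ← F'.map_comp, prod.lift_fst, F'.map_id, FintypeCat.id_apply] at hp1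
      rw [← hb', ← FintypeCat.comp_apply, ← F'.map_comp, prod.lift_snd, hp1] at hp2
      exact ⟨F.map f a, by rw [hnat]; exact hp2⟩
  haveI : ∀ X, IsIso (t.app X) := fun X => (ConcreteCategory.isIso_iff_bijective (t.app X)).2 (key X)
  haveI : IsIso t := NatIso.isIso_of_isIso_app t
  exact ⟨(asIso t).symm⟩

include F in
theorem nonempty_isInitial_of_exact (F' : C ⥤ FintypeCat.{w}) [PreservesFiniteLimits F']
    [PreservesFiniteColimits F'] (X : C) (hX : IsEmpty (F'.obj X)) : Nonempty (IsInitial X) := by
  by_contra hne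
  rw [initial_iff_fiber_empty F, not_isEmpty_iff] at hne
  haveI := isConnected_terminal F
  haveI : Epi (terminal.from X) := epi_of_nonempty_of_isConnected F (terminal.from X)
  haveI : Epi (F'.map (terminal.from X)) := inferInstance
  have hsurj : Function.Surjective ((FintypeCat.incl).map (F'.map (terminal.from X))) :=
    surjective_of_epi (FintypeCat.incl.map (F'.map (terminal.from X)))
  let i : F'.obj (⊤_ C) ≅ ⊤_ FintypeCat.{w} := PreservesTerminal.iso F'
  let j : FintypeCat.incl.{w}.obj (⊤_ FintypeCat.{w}) ≅ ⊤_ (Type w) := PreservesTerminal.iso FintypeCat.incl.{w}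
  let pt := ((FintypeCat.equivEquivIso.symm i).trans (j.trans Types.terminalIso).toEquiv).symm PUnit.unit
  obtain ⟨x, -⟩ := hsurj pt
  exact hX.false x

/-- `FiberFunctor` is invariant under isomorphism. -/
theorem fiberFunctor_of_iso {F' : C ⥤ FintypeCat.{w}} (e : F' ≅ F) : FiberFunctor F' where
  preservesTerminalObjects := preservesLimitsOfShape_of_natIso e.symm
  preservesPullbacks := preservesLimitsOfShape_of_natIso e.symm
  preservesFiniteCoproducts := ⟨fun _ => preservesColimitsOfShape_of_natIso e.symm⟩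
  preservesEpis := Functor.preservesEpimorphisms.of_iso e.symm
  preservesQuotientsByFiniteGroups _ _ _ := preservesColimitsOfShape_of_natIso e.symm
  reflectsIsos := CategoryTheory.reflectsIsomorphisms_of_iso e.symm

end Groth.Agent.Pi1Cat
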