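import Groth.Prelude.Def_Pi1X
import Groth.Agent.Lib.Pi1Cat.Unique

/-!
# Exact functors of Galois categories and fundamental groups
-/

set_option autoImplicit false

universe u v w

open CategoryTheory CategoryTheory.Limits CategoryTheory.PreGaloisCategory
open scoped FintypeCatDiscrete

namespace Groth.Agent.Pi1Cat

variable {C C' : Type u} [Category.{v} C] [Category.{v} C'] [GaloisCategory C] [GaloisCategory C']
  (H : C ⥤ C') (F' : C' ⥤ FintypeCat.{w}) [FiberFunctor F'] [FiberFunctor (H ⋙ F')]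

theorem autWhisker_smul (σ : Aut F') (X : C) (x : (H ⋙ F').obj X) :
    Pi1X.autWhisker H F' σ • x = (show F'.obj (H.obj X) from (σ • (show F'.obj (H.obj X) from x))) := rfl

theorem continuous_autWhisker : Continuous (Pi1X.autWhisker H F') := by
  rw [(autEmbedding_isClosedEmbedding (H ⋙ F')).isInducing.continuous_iff, continuous_pi_iff]
  intro X
  exact (continuous_apply (H.obj X)).comp (autEmbedding_isClosedEmbedding F').continuous

theorem isClosed_range_autWhisker : IsClosed ((Pi1X.autWhisker H F').range : Set (Aut (H ⋙ F'))) := by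
  rw [MonoidHom.coe_range]
  exact (isCompact_range (continuous_autWhisker H F')).isClosed

theorem isClosed_ker_autWhisker : IsClosed ((Pi1X.autWhisker H F').ker : Set (Aut F')) :=
  isClosed_singleton.preimage (continuous_autWhisker H F')

theorem surjective_iff_preserves_connected :
    Function.Surjective (Pi1X.autWhisker H F') ↔
      ∀ X : C, PreGaloisCategory.IsConnected X → PreGaloisCategory.IsConnected (H.obj X) := by
  constructor
  · intro hs X hX
    haveI : Nonempty (F'.obj (H.obj X)) := nonempty_fiber_of_isConnected (H ⋙ F') X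
    haveI : MulAction.IsPretransitive (Aut F') (F'.obj (H.obj X)) := ⟨fun x y => by
      obtain ⟨τ, hτ⟩ := MulAction.exists_smul_eq (Aut (H ⋙ F')) (show (H ⋙ F').obj X from x) y
      obtain ⟨σ, rfl⟩ := hs τ
      exact ⟨σ, hτ⟩⟩
    exact isConnected_of_isPretransitive F' _
  · intro hc τ
    by_contra hne
    obtain ⟨Z, z, hZ, hle, hτ⟩ := exists_connected_separating (H ⋙ F') _ (isClosed_range_autWhisker H F')
      (σ := τ) hne
    haveI := hc Z hZ
    obtain ⟨σ, hσ⟩ := MulAction.exists_smul_eq (Aut F') (show F'.obj (H.obj Z) from z) (τ • z)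
    have h1 : Pi1X.autWhisker H F' σ • z = τ • z := hσ
    rw [MulAction.mem_stabilizer_iff.1 (hle ⟨σ, rfl⟩)] at h1
    exact hτ (MulAction.mem_stabilizer_iff.2 h1.symm)

include F' in
theorem faithful : H.Faithful := Functor.Faithful.of_comp H F'

theorem full_of_surjective (hs : Function.Surjective (Pi1X.autWhisker H F')) : H.Full := by
  refine ⟨fun {X Y} g => ?_⟩
  obtain ⟨f, hf⟩ := exists_hom_of_equivariant (H ⋙ F') (X := X) (Y := Y) (fun x => F'.map g x) fun τ x => by
    obtain ⟨σ, rfl⟩ := hs τ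
    exact (mulAction_naturality F' σ g x).symm
  exact ⟨f, F'.map_injective (FintypeCat.hom_ext _ _ hf)⟩

include F' in
theorem preserves_connected_of_full [H.Full] (X : C) (hX : PreGaloisCategory.IsConnected X) :
    PreGaloisCategory.IsConnected (H.obj X) := by
  classical
  haveI : Nonempty (F'.obj (H.obj X)) := nonempty_fiber_of_isConnected (H ⋙ F') X
  haveI : MulAction.IsPretransitive (Aut F') (F'.obj (H.obj X)) := by
    refine ⟨fun a b => ?_⟩
    by_contra hb
    let T : C := ∐ fun _ : Fin 2 => ⊤_ C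
    obtain ⟨t⟩ := (uniqueTerminal (H ⋙ F')).instInhabited
    let p : Fin 2 → (H ⋙ F').obj T := fun i => (H ⋙ F').map (Sigma.ι (fun _ : Fin 2 => ⊤_ C) i) t
    have hfix : ∀ (τ : Aut (H ⋙ F')) i, τ • p i = p i := fun τ i => by
      rw [mulAction_naturality, smul_terminal]
    have hp : p 0 ≠ p 1 := by
      have hw := (exists_iso_sigma_terminal_iff (H ⋙ F') T).2 ⟨2, ⟨Iso.refl _⟩⟩
      intro h01
      let g : T ⟶ T := Sigma.desc fun i => Sigma.ι (fun _ : Fin 2 => ⊤_ C) i
      have hcard : Nat.card ((H ⋙ F').obj T) = 2 := by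
        haveI : Fintype ((H ⋙ F').obj T) := Fintype.ofFinite _
        let e := PreservesCoproduct.iso ((H ⋙ F') ⋙ FintypeCat.incl) (fun _ : Fin 2 => ⊤_ C) ≪≫
          Types.coproductIso _
        haveI := uniqueTerminal (H ⋙ F')
        calc Nat.card ((H ⋙ F').obj T) = Nat.card (Σ _ : Fin 2, (H ⋙ F').obj (⊤_ C)) :=
              Nat.card_congr e.toEquiv
          _ = 2 := by rw [Nat.card_congr (Equiv.sigmaUnique (Fin 2) fun _ => (H ⋙ F').obj (⊤_ C))]; simp
      have hone : ∀ q : (H ⋙ F').obj T, q = p 0 := fun q => by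
        obtain ⟨i, t', rfl⟩ := exists_sigma_eq (H ⋙ F') (fun _ : Fin 2 => ⊤_ C) q
        haveI := uniqueTerminal (H ⋙ F')
        rw [Subsingleton.elim t' t]
        fin_cases i
        · rfl
        · exact h01.symm
      haveI : Subsingleton ((H ⋙ F').obj T) := ⟨fun q q' => by rw [hone q, hone q']⟩
      have : Nat.card ((H ⋙ F').obj T) ≤ 1 := Finite.card_le_one_iff_subsingleton.2 inferInstance
      omega
    let χ : F'.obj (H.obj X) → F'.obj (H.obj T) := fun x =>
      if x ∈ MulAction.orbit (Aut F') a then p 0 else p 1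
    obtain ⟨g, hg⟩ := exists_hom_of_equivariant F' χ fun σ x => by
      have hmem : σ • x ∈ MulAction.orbit (Aut F') a ↔ x ∈ MulAction.orbit (Aut F') a := by
        rw [← MulAction.orbit_eq_iff, MulAction.orbit_smul, MulAction.orbit_eq_iff]
      simp only [χ, hmem]
      split_ifs
      · exact (hfix (Pi1X.autWhisker H F' σ) 0).symm
      · exact (hfix (Pi1X.autWhisker H F' σ) 1).symm
    obtain ⟨f, hf⟩ := H.map_surjective g
    obtain ⟨τ, hτ⟩ := MulAction.exists_smul_eq (Aut (H ⋙ F')) (show (H ⋙ F').obj X from a) b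
    have h1 : (H ⋙ F').map f b = (H ⋙ F').map f a := by
      rw [← hτ, ← mulAction_naturality]
      obtain ⟨i, t', ht⟩ := exists_sigma_eq (H ⋙ F') (fun _ : Fin 2 => ⊤_ C) ((H ⋙ F').map f a)
      haveI := uniqueTerminal (H ⋙ F')
      rw [← ht, Subsingleton.elim t' t]
      exact hfix τ i
    change F'.map (H.map f) b = F'.map (H.map f) a at h1
    rw [hf, hg, hg] at h1
    have ha : a ∈ MulAction.orbit (Aut F') a := MulAction.mem_orbit_self a
    have hb' : b ∉ MulAction.orbit (Aut F') a := fun ⟨σ, hσ⟩ => hb ⟨σ, hσ⟩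
    simp only [χ, if_pos ha, if_neg hb'] at h1
    exact hp h1.symm
  exact isConnected_of_isPretransitive F' _

theorem surjective_iff_fullyFaithful :
    Function.Surjective (Pi1X.autWhisker H F') ↔ (H.Full ∧ H.Faithful) := by
  refine ⟨fun hs => ⟨full_of_surjective H F' hs, faithful H F'⟩, fun ⟨h1, _⟩ => ?_⟩
  rw [surjective_iff_preserves_connected]
  exact fun X hX => preserves_connected_of_full H F' X hX

theorem ker_le_stabilizer_iff (X' : C') [PreGaloisCategory.IsConnected X'] (a' : F'.obj X') :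
    (Pi1X.autWhisker H F').ker ≤ MulAction.stabilizer (Aut F') a' ↔
      ∃ (X : C) (Y' : C') (i : Y' ⟶ H.obj X) (_ : Y' ⟶ X'), Mono i ∧ PreGaloisCategory.IsConnected Y' := by
  constructor
  · intro h
    let S : Set (Aut (H ⋙ F')) := Pi1X.autWhisker H F' '' (MulAction.stabilizer (Aut F') a' : Set (Aut F'))ᶜ
    have hS : IsClosed S := ((stabilizer_isOpen (Aut F') a').isClosed_compl.isCompact.image
      (continuous_autWhisker H F')).isClosed
    have h1 : (1 : Aut (H ⋙ F')) ∉ S := by
      rintro ⟨σ, hσ, hσ1⟩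
      exact hσ (h hσ1)
    obtain ⟨A, -, hA⟩ := (nhds_one_has_basis_stabilizers (H ⋙ F')).mem_iff.1 (hS.isOpen_compl.mem_nhds h1)
    obtain ⟨Y', i, y, hy, hY, hi⟩ := fiber_in_connected_component F' (H.obj (A : C)) A.pt
    obtain ⟨q, -⟩ := exists_hom_of_stabilizer_le F' y a' fun σ hσ => by
      by_contra hσ'
      refine hA (a := Pi1X.autWhisker H F' σ) ?_ ⟨σ, hσ', rfl⟩
      rw [← stabilizer_eq_of_mono F' i, hy] at hσ
      exact hσ
    exact ⟨A, Y', i, q, hi, hY⟩
  · rintro ⟨X, Y', i, q, hi, hY⟩ σ hσ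
    haveI := nonempty_fiber_of_isConnected F' Y'
    obtain ⟨y, rfl⟩ := surjective_of_nonempty_fiber_of_isConnected F' q a'
    rw [MulAction.mem_stabilizer_iff, mulAction_naturality]
    congr 1
    apply ConcreteCategory.injective_of_mono_of_preservesPullback (F'.map i)
    rw [← mulAction_naturality]
    have h1 : Pi1X.autWhisker H F' σ = 1 := hσ
    have h2 : Pi1X.autWhisker H F' σ • (show (H ⋙ F').obj X from F'.map i y) =
        (show (H ⋙ F').obj X from F'.map i y) := by rw [h1, one_smul]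
    exact h2

theorem injective_iff :
    Function.Injective (Pi1X.autWhisker H F') ↔ ∀ X' : C', PreGaloisCategory.IsConnected X' →
      ∃ (X : C) (Y' : C') (p : Y' ⟶ X') (q : Y' ⟶ H.obj X), Epi p ∧ Mono q := by
  constructor
  · intro h X' hX'
    obtain ⟨a'⟩ := nonempty_fiber_of_isConnected F' X'
    obtain ⟨X, Y', i, q, hi, hY⟩ := (ker_le_stabilizer_iff H F' X' a').1
      (by rw [(MonoidHom.ker_eq_bot_iff _).2 h]; exact bot_le)
    haveI := nonempty_fiber_of_isConnected F' Y'
    exact ⟨X, Y', q, i, epi_of_nonempty_of_isConnected F' q, hi⟩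
  · intro h
    rw [← MonoidHom.ker_eq_bot_iff, Subgroup.eq_bot_iff_forall]
    intro σ hσ
    refine Iso.ext (natTrans_ext_of_isGalois F' fun A _ => FintypeCat.hom_ext _ _ fun a => ?_)
    obtain ⟨X, Y', p, q, hp, hq⟩ := h A inferInstance
    obtain ⟨y, rfl⟩ := surjective_on_fiber_of_epi F' p a
    show σ • F'.map p y = F'.map p y
    rw [mulAction_naturality]
    congr 1
    apply ConcreteCategory.injective_of_mono_of_preservesPullback (F'.map q)
    rw [← mulAction_naturality]
    have h1 : Pi1X.autWhisker H F' σ = 1 := hσ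
    have h2 : Pi1X.autWhisker H F' σ • (show (H ⋙ F').obj X from F'.map q y) =
        (show (H ⋙ F').obj X from F'.map q y) := by rw [h1, one_smul]
    exact h2

theorem range_le_stabilizer_iff (X : C) (a : (H ⋙ F').obj X) :
    (Pi1X.autWhisker H F').range ≤ MulAction.stabilizer (Aut (H ⋙ F')) a ↔
      ∃ s : ⊤_ C' ⟶ H.obj X, ∀ t : F'.obj (⊤_ C'), F'.map s t = a := by
  refine Iff.trans ⟨fun h σ => ?_, fun h => ?_⟩ (exists_section_iff F' (H.obj X) a)
  · exact MulAction.mem_stabilizer_iff.1 (h ⟨σ, rfl⟩)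
  · rintro _ ⟨σ, rfl⟩
    exact MulAction.mem_stabilizer_iff.2 (h σ)

instance normal_iInf_stabilizer {G T : Type*} [Group G] [MulAction G T] :
    (⨅ y : T, MulAction.stabilizer G y).Normal :=
  ⟨fun n hn g => by
    simp only [Subgroup.mem_iInf, MulAction.mem_stabilizer_iff] at hn ⊢
    intro y
    rw [mul_smul, mul_smul, hn, smul_inv_smul]⟩

theorem normalClosure_le_stabilizer_iff (X : C) [PreGaloisCategory.IsConnected X] (a : (H ⋙ F').obj X) :
    Subgroup.normalClosure ((Pi1X.autWhisker H F').range : Set (Aut (H ⋙ F'))) ≤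
        MulAction.stabilizer (Aut (H ⋙ F')) a ↔
      ∃ n : ℕ, Nonempty (H.obj X ≅ ∐ fun _ : Fin n => ⊤_ C') := by
  refine Iff.trans ⟨fun h σ y => ?_, fun h => ?_⟩ (exists_iso_sigma_terminal_iff F' (H.obj X))
  · obtain ⟨τ, hτ⟩ := MulAction.exists_smul_eq (Aut (H ⋙ F')) a (show (H ⋙ F').obj X from y)
    have h1 : τ⁻¹ * Pi1X.autWhisker H F' σ * τ ∈ MulAction.stabilizer (Aut (H ⋙ F')) a := h <| by
      have := Subgroup.normalClosure_normal.conj_mem _
        (Subgroup.subset_normalClosure (s := ((Pi1X.autWhisker H F').range : Set (Aut (H ⋙ F'))))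
          (show Pi1X.autWhisker H F' σ ∈ ((Pi1X.autWhisker H F').range : Set (Aut (H ⋙ F'))) from ⟨σ, rfl⟩)) τ⁻¹
      simpa using this
    rw [MulAction.mem_stabilizer_iff, mul_smul, mul_smul, hτ, inv_smul_eq_iff, hτ] at h1
    exact h1
  · refine Subgroup.normalClosure_le_normal (N := ⨅ y : (H ⋙ F').obj X, MulAction.stabilizer _ y) ?_ |>.trans
      (iInf_le _ a)
    rintro _ ⟨σ, rfl⟩
    simp only [SetLike.mem_coe, Subgroup.mem_iInf, MulAction.mem_stabilizer_iff]
    exact fun y => h σ y

end Groth.Agent.Pi1Cat
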